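import Cfsg.Agent.H792.DS.Tools
import Cfsg.Agent.H648.Loc.RowB

/-!
# S4910, Baby Monster: assembly (helper792)

* `exists_block` : some irreducible character has a central character outside `M` at the elements of order 13
  (`H648.Loc.b_main`);
* `exists_cop` : the piece LD-B7, from the values at `x`, `x z` (LD-B5), the sieve (LD-B6) and `|C(x)| = 312` (LD-B4).
-/

set_option autoImplicit false

open Cfsg Subgroup
open Cfsg.Agent.Blocks.Local Cfsg.Agent.Blocks.Basic Cfsg.Agent.H792.DS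

namespace Cfsg.Agent.H792.LD

universe u

theorem card_b {L : Type u} [Group L] (h : Spor.IsoB L) : Nat.card L = 4154781481226426191177580544000000 := by
  obtain ⟨e⟩ := h
  rw [Nat.card_congr e.toEquiv, Cfsg.Agent.H648.Loc.card_b]

/-- the central character -/
theorem exists_block {L : Type u} [Group L] [Finite L] (h : Spor.IsoB L) {x : L} (hx : orderOf x = 13)
    {M : Ideal AlgInt} (hM : IsPModular 2 M) :
    ∃ χ : IrrCharacter L, ¬ MemLocalIdeal M (centralChar (χ : L → ℂ) x) := by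
  obtain ⟨e⟩ := h
  obtain ⟨-, hone, hNN⟩ := Cfsg.Agent.H648.Loc.b_main
  have hx' : orderOf (e x) = 13 := by rw [← hx]; exact MulEquiv.orderOf_eq e x
  have hfin : Finite Spor.BabyMonster := Finite.of_equiv _ e.toEquiv
  have h1 := hNN M hM
  rw [← Cfsg.Agent.H648.Loc.cl_eq_ind hx' fun y hy => hone (e x) y hx' hy] at h1
  obtain ⟨χ, hχ⟩ := Cfsg.Agent.H652.Four.NN.of_equiv e (x := x) h1
  rw [Cfsg.Agent.H652.Four.om_cl χ.2] at hχ
  exact ⟨χ, hχ⟩

theorem v_zero {n : ℕ} (h : n = 1 ∨ n = 3) : n.factorization 2 = 0 := by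
  rcases h with rfl | rfl
  · simp
  · exact Nat.factorization_eq_zero_of_not_dvd (by norm_num)

theorem small_solution : ∀ n2 < 35, ∀ n3 < 35, ∀ n1 < 313, 33511 * n1 = 43125 * n2 + 184851 * n3 →
    n1 + 9 * n2 + 9 * n3 ≤ 312 → n1 + n2 + n3 = 0 := by
  have key : ∀ n2 < 35, ∀ n3 < 35, (43125 * n2 + 184851 * n3) % 33511 = 0 →
      (43125 * n2 + 184851 * n3) / 33511 + 9 * n2 + 9 * n3 ≤ 312 → n2 = 0 ∧ n3 = 0 := by
    decide +kernel
  intro n2 h2 n3 h3 n1 _ h h'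
  have h4 : (43125 * n2 + 184851 * n3) % 33511 = 0 := by rw [← h]; exact Nat.mul_mod_right _ _
  have h5 : (43125 * n2 + 184851 * n3) / 33511 = n1 := by rw [← h]; exact Nat.mul_div_cancel_left _ (by norm_num)
  obtain ⟨rfl, rfl⟩ := key n2 h2 n3 h3 h4 (by rw [h5]; exact h')
  omega

theorem arith {n1 n2 n3 : ℕ}
    (h : (n1 : ℂ) * 9211433539600384 + n2 * (-11854109736960000) + n3 * (-(2 ^ 38 * 184851)) = 0) :
    33511 * n1 = 43125 * n2 + 184851 * n3 := by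
  have h1 : (n1 : ℂ) * 33511 = n2 * 43125 + n3 * 184851 := by
    have h2 : (274877906944 : ℂ) * (n1 * 33511) = 274877906944 * (n2 * 43125 + n3 * 184851) := by
      linear_combination h
    exact mul_left_cancel₀ (by norm_num) h2
  have h3 : n1 * 33511 = n2 * 43125 + n3 * 184851 := by exact_mod_cast h1
  omega

theorem arith' {n1 n2 n3 c : ℕ}
    (h : (n1 : ℂ) * 9211433539600384 + n2 * (-11854109736960000) + n3 * (-(2 ^ 38 * 184851)) = 0)
    (hle : n1 + 9 * n2 + 9 * n3 ≤ 312) (hc : (c : ℂ) = n1 + n2 + n3) : c = 0 := by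
  have hzero := small_solution n2 (by omega) n3 (by omega) n1 (by omega) (arith h) hle
  have h1 : c = n1 + n2 + n3 := by exact_mod_cast hc
  omega

/-- **LD-B7.** -/
theorem exists_cop {L : Type u} [Group L] [Finite L] (h : Spor.IsoB L) {x : L} (hx : orderOf x = 13)
    (hc : Nat.card (centralizer ({x} : Set L)) = 312)
    (hv : ∃ z : L, orderOf z = 2 ∧ Commute x z ∧ ∀ χ : IrrCharacter L, (χ : L → ℂ) x = 0 ∨
      ∃ ε : ℤ, (ε = 1 ∨ ε = -1) ∧
        (((χ : L → ℂ) x = ε ∧ (χ : L → ℂ) (x * z) = ε) ∨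
          ((χ : L → ℂ) x = (2 * ε : ℤ) ∧ (χ : L → ℂ) (x * z) = (2 * ε : ℤ)) ∨
            ((χ : L → ℂ) x = (3 * ε : ℤ) ∧ (χ : L → ℂ) (x * z) = (-ε : ℤ))))
    (hs : ∀ χ : IrrCharacter L, 2 ^ 38 ∣ charDegree (χ : L → ℂ) →
      (∃ ε : ℤ, (ε = 1 ∨ ε = -1) ∧ (((χ : L → ℂ) x = ε ∧ ¬ 2 ^ 39 ∣ charDegree (χ : L → ℂ)) ∨
        ((χ : L → ℂ) x = (2 * ε : ℤ) ∧ 2 ^ 39 ∣ charDegree (χ : L → ℂ) ∧ ¬ 2 ^ 40 ∣ charDegree (χ : L → ℂ)) ∨
          ((χ : L → ℂ) x = (3 * ε : ℤ) ∧ ¬ 2 ^ 39 ∣ charDegree (χ : L → ℂ)))) →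
      Nat.Coprime (charDegree (χ : L → ℂ)) 4371 ∨
        (charDegree (χ : L → ℂ) = 9211433539600384 ∧ (χ : L → ℂ) x = 1) ∨
        (charDegree (χ : L → ℂ) = 11854109736960000 ∧ (χ : L → ℂ) x = 3) ∨
        (charDegree (χ : L → ℂ) = 2 ^ 38 * 184851 ∧ (χ : L → ℂ) x = 3)) :
    ∃ χ : IrrCharacter L, 2 ^ 38 ∣ charDegree (χ : L → ℂ) ∧ Nat.Coprime (charDegree (χ : L → ℂ)) 4371 := by
  classical
  have hfinI : Finite (IrrCharacter L) := S0909.finite_irr
  have := Fintype.ofFinite (IrrCharacter L)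
  obtain ⟨M, hM⟩ := Cfsg.Agent.Blocks.ExistsModular.exists_isPModular Nat.prime_two
  have hMp := isPrime_of_isPModular hM
  obtain ⟨χ₀, hχ₀⟩ := exists_block h hx hM
  have hcard := card_b h
  -- the index
  have hidx : ((centralizer ({x} : Set L)).index).factorization 2 = 38 := by
    have h1 := Subgroup.card_mul_index (centralizer ({x} : Set L))
    rw [hc, hcard] at h1
    have h2 : (centralizer ({x} : Set L)).index = 2 ^ 38 * 48445535182047609375 := by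
      have : (4154781481226426191177580544000000 : ℕ) = 312 * (2 ^ 38 * 48445535182047609375) := by norm_num
      rw [this] at h1
      exact Nat.eq_of_mul_eq_mul_left (by norm_num) h1
    rw [h2, Nat.factorization_mul (by norm_num) (by norm_num), Finsupp.add_apply,
      Nat.Prime.factorization_pow Nat.prime_two, Finsupp.single_eq_same,
      Nat.factorization_eq_zero_of_not_dvd (by norm_num)]
  obtain ⟨z, hz, hxz, hval⟩ := hv
  have hord : orderOf (x * z) = 26 := by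
    rw [hxz.orderOf_mul_eq_mul_orderOf_of_coprime (by rw [hx, hz]; norm_num), hx, hz]
  by_contra hno
  push Not at hno
  -- the members of the block
  have hmem : ∀ ψ ∈ blockOf M (χ₀ : L → ℂ),
      (charDegree (ψ : L → ℂ) = 9211433539600384 ∧ (ψ : L → ℂ) x = 1 ∧ (ψ : L → ℂ) (x * z) = 1) ∨
      (charDegree (ψ : L → ℂ) = 11854109736960000 ∧ (ψ : L → ℂ) x = 3 ∧ (ψ : L → ℂ) (x * z) = -1) ∨
      (charDegree (ψ : L → ℂ) = 2 ^ 38 * 184851 ∧ (ψ : L → ℂ) x = 3 ∧ (ψ : L → ℂ) (x * z) = -1) := by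
    intro ψ hψ
    have hd0 : charDegree (ψ : L → ℂ) ≠ 0 := (charDegree_pos ψ.2).ne'
    have hdvd : ∀ k, 2 ^ k ∣ charDegree (ψ : L → ℂ) ↔ k ≤ (charDegree (ψ : L → ℂ)).factorization 2 := fun k =>
      Nat.prime_two.pow_dvd_iff_le_factorization hd0
    rcases hval ψ with h0 | ⟨ε, hε, h1⟩
    · exact absurd rfl ((factorization_eq_of_mem hM hχ₀ hψ (m := 0) (by rw [h0, Int.cast_zero])).1)
    · have hna1 : ε.natAbs = 1 := by rcases hε with rfl | rfl <;> rfl
      have hna2 : (2 * ε).natAbs = 2 := by rcases hε with rfl | rfl <;> rfl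
      have hna3 : (3 * ε).natAbs = 3 := by rcases hε with rfl | rfl <;> rfl
      have hcases : 2 ^ 38 ∣ charDegree (ψ : L → ℂ) ∧
          (∃ ε : ℤ, (ε = 1 ∨ ε = -1) ∧ (((ψ : L → ℂ) x = ε ∧ ¬ 2 ^ 39 ∣ charDegree (ψ : L → ℂ)) ∨
            ((ψ : L → ℂ) x = (2 * ε : ℤ) ∧ 2 ^ 39 ∣ charDegree (ψ : L → ℂ) ∧ ¬ 2 ^ 40 ∣ charDegree (ψ : L → ℂ)) ∨
              ((ψ : L → ℂ) x = (3 * ε : ℤ) ∧ ¬ 2 ^ 39 ∣ charDegree (ψ : L → ℂ)))) := by
        rcases h1 with ⟨h1, -⟩ | ⟨h1, -⟩ | ⟨h1, -⟩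
        · have h3 := (factorization_eq_of_mem hM hχ₀ hψ h1).2
          rw [hidx, v_zero (Or.inl hna1)] at h3
          exact ⟨(hdvd _).2 (by omega), ε, hε, Or.inl ⟨h1, fun h4 => by rw [hdvd] at h4; omega⟩⟩
        · have h3 := (factorization_eq_of_mem hM hχ₀ hψ h1).2
          rw [hidx, hna2, Nat.Prime.factorization_self Nat.prime_two] at h3
          exact ⟨(hdvd _).2 (by omega), ε, hε, Or.inr (Or.inl ⟨h1, (hdvd _).2 (by omega),
            fun h4 => by rw [hdvd] at h4; omega⟩)⟩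
        · have h3 := (factorization_eq_of_mem hM hχ₀ hψ h1).2
          rw [hidx, v_zero (Or.inr hna3)] at h3
          exact ⟨(hdvd _).2 (by omega), ε, hε, Or.inr (Or.inr ⟨h1, fun h4 => by rw [hdvd] at h4; omega⟩)⟩
      have hone : (ψ : L → ℂ) x = 1 → (ψ : L → ℂ) (x * z) = 1 := by
        intro hx1
        rcases h1 with ⟨h1, h2⟩ | ⟨h1, h2⟩ | ⟨h1, h2⟩
        · rw [h2, ← h1, hx1]
        · rw [hx1] at h1
          have h3 : (1 : ℤ) = 2 * ε := by exact_mod_cast h1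
          omega
        · rw [hx1] at h1
          have h3 : (1 : ℤ) = 3 * ε := by exact_mod_cast h1
          omega
      have hthree : (ψ : L → ℂ) x = 3 → (ψ : L → ℂ) (x * z) = -1 := by
        intro hx1
        rcases h1 with ⟨h1, h2⟩ | ⟨h1, h2⟩ | ⟨h1, h2⟩
        · rw [hx1] at h1
          have h3 : (3 : ℤ) = ε := by exact_mod_cast h1
          omega
        · rw [hx1] at h1
          have h3 : (3 : ℤ) = 2 * ε := by exact_mod_cast h1
          omega
        · rw [hx1] at h1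
          have h3 : (3 : ℤ) = 3 * ε := by exact_mod_cast h1
          have h4 : ε = 1 := by omega
          rw [h2, h4, Int.cast_neg, Int.cast_one]
      rcases hs ψ hcases.1 hcases.2 with h2 | ⟨h2, h3⟩ | ⟨h2, h3⟩ | ⟨h2, h3⟩
      · exact absurd h2 (hno ψ hcases.1)
      · exact Or.inl ⟨h2, h3, hone h3⟩
      · exact Or.inr (Or.inl ⟨h2, h3, hthree h3⟩)
      · exact Or.inr (Or.inr ⟨h2, h3, hthree h3⟩)
  -- weak block orthogonality
  have hB : IsPBlock M (blockOf M (χ₀ : L → ℂ)) := isPBlock_blockOf χ₀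
  have := Fact.mk Nat.prime_two
  have horth := Cfsg.Agent.Blocks.Orthogonality.weak_block_orthogonality hM (blockOf M (χ₀ : L → ℂ))
    (Cfsg.Agent.Blocks.Osima.memLocalRing_blockCoeff hM hB) (x := (1 : L)) (y := x * z)
    (by rw [orderOf_one]; norm_num) (by rw [hord]; norm_num)
  rw [finsum_mem_eq_finite_toFinset_sum _ (Set.toFinite _)] at horth
  set S := (Set.toFinite (blockOf M (χ₀ : L → ℂ))).toFinset with hS
  have hSmem : ∀ ψ, ψ ∈ S ↔ ψ ∈ blockOf M (χ₀ : L → ℂ) := fun ψ => by rw [hS, Set.Finite.mem_toFinset]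
  set n1 := (S.filter fun ψ : IrrCharacter L => charDegree (ψ : L → ℂ) = 9211433539600384).card with hn1
  set n2 := (S.filter fun ψ : IrrCharacter L => charDegree (ψ : L → ℂ) = 11854109736960000).card with hn2
  set n3 := (S.filter fun ψ : IrrCharacter L => charDegree (ψ : L → ℂ) = 2 ^ 38 * 184851).card with hn3
  -- a function which depends only on the degree
  have hsplit : ∀ (f : IrrCharacter L → ℂ) (a b c : ℂ),
      (∀ ψ ∈ S, charDegree (ψ : L → ℂ) = 9211433539600384 → f ψ = a) →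
      (∀ ψ ∈ S, charDegree (ψ : L → ℂ) = 11854109736960000 → f ψ = b) →
      (∀ ψ ∈ S, charDegree (ψ : L → ℂ) = 2 ^ 38 * 184851 → f ψ = c) →
      ∑ ψ ∈ S, f ψ = n1 * a + n2 * b + n3 * c := by
    intro f a b c ha hb hc
    have h1 : ∀ ψ ∈ S, f ψ = (if charDegree (ψ : L → ℂ) = 9211433539600384 then a else 0) +
        (if charDegree (ψ : L → ℂ) = 11854109736960000 then b else 0) +
        (if charDegree (ψ : L → ℂ) = 2 ^ 38 * 184851 then c else 0) := by
      intro ψ hψ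
      rcases hmem ψ ((hSmem ψ).1 hψ) with ⟨h2, -⟩ | ⟨h2, -⟩ | ⟨h2, -⟩
      · rw [ha ψ hψ h2, if_pos h2, if_neg (by rw [h2]; norm_num), if_neg (by rw [h2]; norm_num), add_zero, add_zero]
      · rw [hb ψ hψ h2, if_pos h2, if_neg (by rw [h2]; norm_num), if_neg (by rw [h2]; norm_num), add_zero, zero_add]
      · rw [hc ψ hψ h2, if_pos h2, if_neg (by rw [h2]; norm_num), if_neg (by rw [h2]; norm_num), zero_add, zero_add]
    rw [Finset.sum_congr rfl h1, Finset.sum_add_distrib, Finset.sum_add_distrib, ← Finset.sum_filter,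
      ← Finset.sum_filter, ← Finset.sum_filter, Finset.sum_const, Finset.sum_const, Finset.sum_const,
      nsmul_eq_mul, nsmul_eq_mul, nsmul_eq_mul]
  have e1 := hsplit (fun ψ => (ψ : L → ℂ) 1 * (starRingEnd ℂ) ((ψ : L → ℂ) (x * z)))
    9211433539600384 (-11854109736960000) (-(2 ^ 38 * 184851)) ?_ ?_ ?_
  rotate_left
  · intro ψ hψ h2
    rcases hmem ψ ((hSmem ψ).1 hψ) with ⟨-, -, h3⟩ | ⟨h4, -⟩ | ⟨h4, -⟩
    · rw [irr_one_eq_charDegree ψ.2, h2, h3, map_one, mul_one]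
      norm_num
    · rw [h2] at h4; norm_num at h4
    · rw [h2] at h4; norm_num at h4
  · intro ψ hψ h2
    rcases hmem ψ ((hSmem ψ).1 hψ) with ⟨h4, -⟩ | ⟨-, -, h3⟩ | ⟨h4, -⟩
    · rw [h2] at h4; norm_num at h4
    · rw [irr_one_eq_charDegree ψ.2, h2, h3, map_neg, map_one]
      norm_num
    · rw [h2] at h4; norm_num at h4
  · intro ψ hψ h2
    rcases hmem ψ ((hSmem ψ).1 hψ) with ⟨h4, -⟩ | ⟨h4, -⟩ | ⟨-, -, h3⟩
    · rw [h2] at h4; norm_num at h4
    · rw [h2] at h4; norm_num at h4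
    · rw [irr_one_eq_charDegree ψ.2, h2, h3, map_neg, map_one]
      norm_num
  rw [e1] at horth
  have e2 := hsplit (fun _ => 1) 1 1 1 (fun _ _ _ => rfl) (fun _ _ _ => rfl) (fun _ _ _ => rfl)
  have e3 := hsplit (fun ψ => (ψ : L → ℂ) x * (starRingEnd ℂ) ((ψ : L → ℂ) x)) 1 9 9 ?_ ?_ ?_
  rotate_left
  · intro ψ hψ h2
    rcases hmem ψ ((hSmem ψ).1 hψ) with ⟨-, h3, -⟩ | ⟨h4, -⟩ | ⟨h4, -⟩
    · rw [h3, map_one, mul_one]
    · rw [h2] at h4; norm_num at h4
    · rw [h2] at h4; norm_num at h4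
  · intro ψ hψ h2
    rcases hmem ψ ((hSmem ψ).1 hψ) with ⟨h4, -⟩ | ⟨-, h3, -⟩ | ⟨h4, -⟩
    · rw [h2] at h4; norm_num at h4
    · rw [h3, Complex.conj_ofNat]
      norm_num
    · rw [h2] at h4; norm_num at h4
  · intro ψ hψ h2
    rcases hmem ψ ((hSmem ψ).1 hψ) with ⟨h4, -⟩ | ⟨h4, -⟩ | ⟨-, h3, -⟩
    · rw [h2] at h4; norm_num at h4
    · rw [h2] at h4; norm_num at h4
    · rw [h3, Complex.conj_ofNat]
      norm_num
  -- `n1 + 9 n2 + 9 n3 ≤ 312`
  have hcol := Cfsg.Agent.H686.CharKit.col_orth x x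
  rw [if_pos (IsConj.refl _), hc] at hcol
  have hle : n1 + 9 * n2 + 9 * n3 ≤ 312 := by
    have h1 : ∀ χ : IrrCharacter L, (χ : L → ℂ) x * (starRingEnd ℂ) ((χ : L → ℂ) x) =
        ((Complex.normSq ((χ : L → ℂ) x) : ℝ) : ℂ) := fun χ => Complex.mul_conj _
    have h2 : ∑ ψ ∈ S, Complex.normSq ((ψ : L → ℂ) x) ≤ ∑ ψ : IrrCharacter L, Complex.normSq ((ψ : L → ℂ) x) :=
      Finset.sum_le_sum_of_subset_of_nonneg (Finset.subset_univ _) fun _ _ _ => Complex.normSq_nonneg _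
    have h3 : ((∑ ψ ∈ S, Complex.normSq ((ψ : L → ℂ) x) : ℝ) : ℂ) = ((n1 + 9 * n2 + 9 * n3 : ℝ) : ℂ) := by
      rw [Complex.ofReal_sum, ← Finset.sum_congr rfl fun ψ _ => h1 ψ, e3]
      push_cast
      ring
    have h4 : ((∑ ψ : IrrCharacter L, Complex.normSq ((ψ : L → ℂ) x) : ℝ) : ℂ) = ((312 : ℝ) : ℂ) := by
      rw [Complex.ofReal_sum, ← Finset.sum_congr rfl fun ψ _ => h1 ψ, hcol]
      norm_num
    rw [Complex.ofReal_inj] at h3 h4
    rw [h3, h4] at h2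
    exact_mod_cast h2
  have hS0 : S.card = 0 := by
    rw [Finset.sum_const, nsmul_eq_mul, mul_one, mul_one, mul_one, mul_one] at e2
    exact arith' horth hle e2
  rw [Finset.card_eq_zero] at hS0
  have h1 : χ₀ ∈ S := (hSmem _).2 (mem_blockOf_self χ₀)
  rw [hS0] at h1
  exact absurd h1 (Finset.notMem_empty _)

end Cfsg.Agent.H792.LD
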