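import Cfsg.Agent.H792.DS.Tools

/-!
# S4910, Monster: the congruences (helper792)

`u` of order 3, `C = C(u) = ⟨u⟩ × T` (`T = Th`), `θ` a character of `T` of degree `767637 = 3 ^ 10 * 13`, `θ'` its
extension to `C` trivial on `u`, `χ` an irreducible character of `G` with
`inducedCentralChar C θ' g ≡ centralChar χ g` for all `g` (`χ` in the block of helper66's `Three`).

* `ind_eq`, `congr_T` : at an element `s` of `T` of order prime to 3: `centralChar θ s ≡ centralChar χ s`;
* `S19`, `S31` : helper853's conditions;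
* `s19_mem`, `s31_mem` : in the form of `H853.Sieve.RowM.Cand`.
-/

set_option autoImplicit false

open Cfsg Subgroup
open Cfsg.Agent.Blocks.Local Cfsg.Agent.Blocks.Basic Cfsg.Agent.H792.DS

namespace Cfsg.Agent.H792.LD

universe u

variable {G : Type u} [Group G] [Finite G] {M : Ideal AlgInt}

section Grp

variable {u : G} (hu : orderOf u = 3) {T : Subgroup G} (hTC : T ≤ centralizer ({u} : Set G))
  (hcard : Nat.card (centralizer ({u} : Set G)) = 3 * Nat.card T) (huT : u ∉ T)

omit [Finite G] in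
include hu huT in
theorem dvd_of_pow_mem {n : ℕ} (h : u ^ n ∈ T) : 3 ∣ n := by
  by_contra h3
  apply huT
  have hc : Nat.Coprime (orderOf u) n := by rw [hu]; exact (Nat.Prime.coprime_iff_not_dvd (by norm_num)).2 h3
  obtain ⟨m, hm⟩ := exists_pow_eq_self_of_coprime hc.symm
  rw [← hm]
  exact pow_mem h m

include hu hTC hcard huT in
/-- `C = ⟨u⟩ T` -/
theorem exists_form {h : G} (hh : h ∈ centralizer ({u} : Set G)) : ∃ i : ℕ, i < 3 ∧ ∃ t ∈ T, h = u ^ i * t := by
  classical
  have huC : u ∈ centralizer ({u} : Set G) := mem_centralizer_singleton_iff.2 rfl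
  let f : Fin 3 × T → centralizer ({u} : Set G) := fun x => ⟨u ^ (x.1 : ℕ) * x.2, mul_mem (pow_mem huC _) (hTC x.2.2)⟩
  have hf : Function.Injective f := by
    rintro ⟨i, t⟩ ⟨j, t'⟩ h
    have h1 : u ^ (i : ℕ) * (t : G) = u ^ (j : ℕ) * t' := congrArg Subtype.val h
    have key : ∀ (i j : Fin 3) (t t' : T), (i : ℕ) ≤ j → u ^ (i : ℕ) * (t : G) = u ^ (j : ℕ) * t' → i = j := by
      intro i j t t' hij h
      have h2 : (t : G) = u ^ ((j : ℕ) - i) * t' := by
        apply mul_left_cancel (a := u ^ (i : ℕ))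
        rw [h, ← mul_assoc, ← pow_add, Nat.add_sub_cancel' hij]
      have h3 : u ^ ((j : ℕ) - i) ∈ T := by
        have h4 : u ^ ((j : ℕ) - i) = (t : G) * (t' : G)⁻¹ := by rw [h2, mul_inv_cancel_right]
        rw [h4]
        exact mul_mem t.2 (inv_mem t'.2)
      have h5 := dvd_of_pow_mem hu huT h3
      have h6 := i.2
      have h7 := j.2
      apply Fin.ext
      omega
    have hij : i = j := by
      rcases le_total (i : ℕ) j with h2 | h2
      · exact key i j t t' h2 h1
      · exact (key j i t' t h2 h1.symm).symm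
    subst hij
    have h2 : t = t' := Subtype.ext (mul_left_cancel h1)
    rw [h2]
  have hcard' : Nat.card (Fin 3 × T) = Nat.card (centralizer ({u} : Set G)) := by
    rw [Nat.card_prod, Nat.card_fin, hcard]
  have hs : Function.Surjective f := ((Nat.bijective_iff_injective_and_card f).2 ⟨hf, hcard'⟩).2
  obtain ⟨⟨i, t⟩, hx⟩ := hs ⟨h, hh⟩
  exact ⟨i, i.2, t, t.2, (congrArg Subtype.val hx).symm⟩

include hu hTC hcard huT in
theorem mem_T {h : G} (hh : h ∈ centralizer ({u} : Set G)) (h3 : ¬ 3 ∣ orderOf h) : h ∈ T := by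
  obtain ⟨i, hi, t, ht, rfl⟩ := exists_form hu hTC hcard huT hh
  have huC := hTC ht
  have hcomm : Commute (u ^ i) t := Commute.pow_left ((mem_centralizer_singleton_iff.1 huC).symm) i
  set n := orderOf (u ^ i * t) with hn
  have h1 : (u ^ i * t) ^ n = 1 := pow_orderOf_eq_one _
  rw [hcomm.mul_pow, ← pow_mul] at h1
  have h2 : u ^ (i * n) ∈ T := by
    rw [eq_inv_of_mul_eq_one_left h1]
    exact inv_mem (pow_mem ht n)
  have h4 := dvd_of_pow_mem hu huT h2
  have h5 : 3 ∣ i := by
    rcases (Nat.Prime.dvd_mul (by norm_num)).1 h4 with h5 | h5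
    · exact h5
    · exact absurd h5 h3
  obtain rfl : i = 0 := by omega
  rw [pow_zero, one_mul]
  exact ht

include hu hTC hcard huT in
/-- **The induced central character at an element of `T` of order prime to 3.** -/
theorem ind_eq {θ' : centralizer ({u} : Set G) → ℂ} {θ : T → ℂ} (hθ : IsIrrCharacter T θ)
    (hθ' : ∀ t : T, θ' ⟨t, hTC t.2⟩ = θ t) {s : T} (hs : ¬ 3 ∣ orderOf s)
    (hconj : ∀ t : T, IsConj (s : G) t → IsConj s t) :
    inducedCentralChar (centralizer ({u} : Set G)) θ' (s : G) = centralChar θ s := by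
  have hinj : Function.Injective fun t : T => (⟨t, hTC t.2⟩ : centralizer ({u} : Set G)) := fun a b h =>
    Subtype.ext (congrArg (fun x : centralizer ({u} : Set G) => (x : G)) h)
  have hset : {h : centralizer ({u} : Set G) | IsConj (s : G) h} =
      (fun t : T => (⟨t, hTC t.2⟩ : centralizer ({u} : Set G))) '' {t : T | IsConj s t} := by
    ext h
    constructor
    · intro hh
      have h1 : ¬ 3 ∣ orderOf (h : G) := by
        obtain ⟨c, hc⟩ := isConj_iff.1 (show IsConj (s : G) h from hh)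
        rw [← hc, show c * (s : G) * c⁻¹ = MulAut.conj c s from rfl, MulEquiv.orderOf_eq, Subgroup.orderOf_coe]
        exact hs
      have h2 := mem_T hu hTC hcard huT h.2 h1
      exact ⟨⟨h, h2⟩, hconj ⟨h, h2⟩ hh, rfl⟩
    · rintro ⟨t, ht, rfl⟩
      obtain ⟨c, hc⟩ := isConj_iff.1 (show IsConj s t from ht)
      exact isConj_iff.2 ⟨c, by rw [← hc]; rfl⟩
  rw [inducedCentralChar_def, hset, finsum_mem_image (hinj.injOn)]
  have h1 : ∀ t ∈ {t : T | IsConj s t}, θ' ⟨t, hTC t.2⟩ / θ' 1 = θ s / θ 1 := by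
    intro t ht
    rw [hθ', irr_isConj hθ (show IsConj s t from ht)]
    congr 1
    exact hθ' 1
  rw [finsum_mem_congr rfl h1]
  have h2 : ∑ᶠ t ∈ {t : T | IsConj s t}, θ s / θ 1 = ({t : T | IsConj s t}.ncard : ℂ) * (θ s / θ 1) := by
    rw [finsum_mem_eq_finite_toFinset_sum _ (Set.toFinite _), Finset.sum_const, nsmul_eq_mul,
      ← Set.ncard_eq_toFinset_card]
  rw [h2, centralChar_def, index_centralizer_eq_ncard, mul_div_assoc]

end Grp

/-- integers in the local ideal -/
theorem three_dvd (hM : IsPModular 3 M) {n : ℤ} {z : ℂ} (h : MemLocalIdeal M z) (hz : z = n) : (3 : ℤ) ∣ n := by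
  have hMp := isPrime_of_isPModular hM
  rw [hz, memLocalIdeal_intCast_iff hM] at h
  exact_mod_cast h

/-! ### Numbers -/

theorem num19 {m σ : ℤ} (h : (3 : ℤ) ∣ -(80883712000 * m) - 13 * 609834563784973900796880374831513600000000 * σ) :
    σ ≡ m [ZMOD 3] := by
  obtain ⟨q, hq⟩ := h
  exact Int.modEq_iff_dvd.2 ⟨-q - 26961237333 * m - 2642616443068220236786481624269892266666666 * σ - σ, by linear_combination -hq⟩

theorem num31 {m c : ℤ} (h : (3 : ℤ) ∣ 49573888000 * m - 13 * 3737695713520807779077653910257664000000000 * c) :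
    c ≡ -m [ZMOD 3] := by
  obtain ⟨q, hq⟩ := h
  exact Int.modEq_iff_dvd.2 ⟨-q + 16524629333 * m - 16196681425256833709336500277783210666666666 * c - c, by linear_combination -hq⟩

theorem num31' {m : ℤ} (h : (3 : ℤ) ∣ 49573888000 * m) : (3 : ℤ) ∣ m := by
  obtain ⟨q, hq⟩ := h
  exact ⟨q - 16524629333 * m, by linear_combination hq⟩

theorem num31'' {m c : ℤ} (h1 : (3 : ℤ) ∣ 49573888000 * m + 13 * 3737695713520807779077653910257664000000000 * c)
    (h2 : (3 : ℤ) ∣ 13 * 3737695713520807779077653910257664000000000 * c) : (3 : ℤ) ∣ m := by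
  obtain ⟨q, hq⟩ := h1
  obtain ⟨r, hr⟩ := h2
  exact ⟨q - r - 16524629333 * m, by linear_combination hq - hr⟩

theorem e19 : (808017424794512875886459904961710757005754368000000000 : ℕ) =
    1140 * (3 ^ 19 * 609834563784973900796880374831513600000000) := by norm_num

theorem e31 : (808017424794512875886459904961710757005754368000000000 : ℕ) =
    186 * (3 ^ 19 * 3737695713520807779077653910257664000000000) := by norm_num

theorem f19 : (90745943887872000 : ℕ) = 19 * (3 ^ 10 * 80883712000) := by norm_num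

theorem f31 : (90745943887872000 : ℕ) = 31 * (3 ^ 10 * 49573888000) := by norm_num

section Num

variable {u : G} (hu : orderOf u = 3) {T : Subgroup G} (hTC : T ≤ centralizer ({u} : Set G))
  (hcard : Nat.card (centralizer ({u} : Set G)) = 3 * Nat.card T) (huT : u ∉ T)
  (hG : Nat.card G = 808017424794512875886459904961710757005754368000000000)
  (hT : Nat.card T = 90745943887872000)
  {θ' : centralizer ({u} : Set G) → ℂ} {θ : T → ℂ} (hθ : IsIrrCharacter T θ) (hd : charDegree θ = 767637)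
  (hθ' : ∀ t : T, θ' ⟨t, hTC t.2⟩ = θ t) {χ : G → ℂ} (hχ : IsIrrCharacter G χ)
  (hcong : ∀ g, MemLocalIdeal M (inducedCentralChar (centralizer ({u} : Set G)) θ' g - centralChar χ g))
  {m : ℕ} (hm : charDegree χ = 3 ^ 19 * m) (hm3 : ¬ 3 ∣ m)

include hu hTC hcard huT hθ hd hθ' hχ hcong hm hm3 in
/-- the general congruence: `|C_G(s)| = 3 a`, `|C_T(s)| = b` -/
theorem congr_T (hM : IsPModular 3 M) {s : T} (hs : ¬ 3 ∣ orderOf s)
    (hconj : ∀ t : T, IsConj (s : G) t → IsConj s t) {k t : ℕ}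
    (hk : (centralizer ({(s : G)} : Set G)).index = 3 ^ 19 * k) (ht : (centralizer ({s} : Set T)).index = 3 ^ 10 * t) :
    MemLocalIdeal M ((t : ℂ) * m * θ s - 13 * k * χ s) := by
  have hMp := isPrime_of_isPModular hM
  have hm0 : (m : ℂ) ≠ 0 := by
    rw [Nat.cast_ne_zero]
    rintro rfl
    exact hm3 (dvd_zero 3)
  have h1 := hcong (s : G)
  rw [ind_eq hu hTC hcard huT hθ hθ' hs hconj, centralChar_def, centralChar_def, irr_one_eq_charDegree hθ, hd,
    irr_one_eq_charDegree hχ, hm, hk, ht] at h1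
  have h2 := memLocalIdeal_mul_left (memLocalRing_natCast (13 * m)) h1
  have h3 : (t : ℂ) * m * θ s - 13 * k * χ s =
      ((13 * m : ℕ) : ℂ) * (((3 ^ 10 * t : ℕ) : ℂ) * θ s / ((767637 : ℕ) : ℂ) -
        ((3 ^ 19 * k : ℕ) : ℂ) * χ s / ((3 ^ 19 * m : ℕ) : ℂ)) := by
    push_cast
    field_simp
    ring
  rw [h3]
  exact h2

theorem index_of {H : Type*} [Group H] [Finite H] {s : H} {n c i : ℕ} (hn : Nat.card H = n)
    (hc : Nat.card (centralizer ({s} : Set H)) = c) (hi : n = c * i) (hc0 : 0 < c) :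
    (centralizer ({s} : Set H)).index = i := by
  have h := Subgroup.card_mul_index (centralizer ({s} : Set H))
  rw [hc, hn, hi] at h
  exact Nat.eq_of_mul_eq_mul_left hc0 h

include hu hTC hcard huT hG hT hθ hd hθ' hχ hcong hm hm3 in
/-- **(S19)** -/
theorem S19 (hM : IsPModular 3 M) {s : T} (hs : orderOf s = 19) (hcs : Nat.card (centralizer ({(s : G)} : Set G)) = 1140)
    (hct : Nat.card (centralizer ({s} : Set T)) = 19) (hconj : ∀ t : T, IsConj (s : G) t → IsConj s t)
    (hθs : θ s = -1) {σ : ℤ} (hσ : χ s = σ) : σ ≡ m [ZMOD 3] := by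
  have h := congr_T hu hTC hcard huT hθ hd hθ' hχ hcong hm hm3 hM (s := s) (by rw [hs]; norm_num) hconj
    (k := 609834563784973900796880374831513600000000) (t := 80883712000)
    (index_of hG hcs e19 (by norm_num)) (index_of hT hct f19 (by norm_num))
  have h1 := three_dvd hM h (n := -(80883712000 * m) - 13 * 609834563784973900796880374831513600000000 * σ) (by
    rw [hθs, hσ]
    push_cast
    ring)
  exact num19 h1

/-- `a η + b ∈ M` implies `3 ∣ a` and `3 ∣ b`, if `η ^ 2 + η + 8 = 0` -/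
theorem eta_indep (hM : IsPModular 3 M) {η : ℂ} (hη : η ^ 2 + η + 8 = 0) {a b : ℤ}
    (h : MemLocalIdeal M ((a : ℂ) * η + b)) : (3 : ℤ) ∣ a ∧ (3 : ℤ) ∣ b := by
  have hMp := isPrime_of_isPModular hM
  have hint : IsIntegral ℤ η := by
    refine ⟨Polynomial.X ^ 2 + Polynomial.X + 8, ?_, ?_⟩
    · have : (Polynomial.X ^ 2 + Polynomial.X + 8 : Polynomial ℤ) =
          Polynomial.X ^ 2 + (Polynomial.X + Polynomial.C 8) := by
        rw [add_assoc]; rfl
      rw [this]
      exact Polynomial.monic_X_pow_add (by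
        rw [Polynomial.degree_X_add_C]
        norm_num)
    · simpa using hη
  have h1 : MemLocalRing M ((a : ℂ) * (-1 - η) + b) :=
    memLocalRing_add (memLocalRing_mul (memLocalRing_intCast a)
      (memLocalRing_sub (memLocalRing_neg memLocalRing_one) (memLocalRing_of_isIntegral hint))) (memLocalRing_intCast b)
  have h2 := memLocalIdeal_mul_left h1 h
  have h3 := three_dvd hM h2 (n := 8 * a ^ 2 - a * b + b ^ 2) (by
    push_cast
    linear_combination (-(a : ℂ) ^ 2) * hη)
  have h4 : ∀ a b : ZMod 3, 8 * a ^ 2 - a * b + b ^ 2 = 0 → a = 0 ∧ b = 0 := by decide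
  have h5 := h4 a b (by
    have := (ZMod.intCast_zmod_eq_zero_iff_dvd (8 * a ^ 2 - a * b + b ^ 2) 3).2 (by exact_mod_cast h3)
    push_cast at this
    exact this)
  exact ⟨(ZMod.intCast_zmod_eq_zero_iff_dvd a 3).1 h5.1, (ZMod.intCast_zmod_eq_zero_iff_dvd b 3).1 h5.2⟩

include hu hTC hcard huT hG hT hθ hd hθ' hχ hcong hm hm3 in
/-- **(S31)**: the value at `r` is not an integer, and it is `c η`, not `c η'` -/
theorem S31 (hM : IsPModular 3 M) {r : T} (hr : orderOf r = 31) (hcs : Nat.card (centralizer ({(r : G)} : Set G)) = 186)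
    (hct : Nat.card (centralizer ({r} : Set T)) = 31) (hconj : ∀ t : T, IsConj (r : G) t → IsConj r t)
    {η : ℂ} (hη : η ^ 2 + η + 8 = 0) (hθr : θ r = η) :
    (∀ n : ℤ, χ r ≠ n) ∧ (∀ c : ℤ, χ r = c * η → c ≡ -m [ZMOD 3]) ∧ ∀ c : ℤ, ¬ χ r = c * (-1 - η) := by
  have h := congr_T hu hTC hcard huT hθ hd hθ' hχ hcong hm hm3 hM (s := r) (by rw [hr]; norm_num) hconj
    (k := 3737695713520807779077653910257664000000000) (t := 49573888000)
    (index_of hG hcs e31 (by norm_num)) (index_of hT hct f31 (by norm_num))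
  rw [hθr] at h
  refine ⟨fun n hn => ?_, fun c hc => ?_, fun c hc => ?_⟩
  · have h1 := eta_indep hM hη (a := 49573888000 * m) (b := -(13 * 3737695713520807779077653910257664000000000 * n)) (by
      rw [hn] at h
      push_cast
      push_cast at h
      convert h using 1
      ring)
    exact hm3 (by exact_mod_cast num31' h1.1)
  · have h1 := eta_indep hM hη (a := 49573888000 * m - 13 * 3737695713520807779077653910257664000000000 * c) (b := 0) (by
      rw [hc] at h
      push_cast
      push_cast at h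
      convert h using 1
      ring)
    exact num31 h1.1
  · have h1 := eta_indep hM hη (a := 49573888000 * m + 13 * 3737695713520807779077653910257664000000000 * c)
      (b := 13 * 3737695713520807779077653910257664000000000 * c) (by
      rw [hc] at h
      push_cast
      push_cast at h
      convert h using 1
      ring)
    exact hm3 (by exact_mod_cast num31'' h1.1 h1.2)

end Num

/-! ### The final forms (hypotheses `hS19`, `hS31` of `H676.Deg.RowM.cand`) -/

section Final

/-- a rational value with small centralizer -/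
theorem value_of {H : Type u} [Group H] [Finite H] (θ : IrrCharacter H) {p : ℕ} (hp : p.Prime) {s : H}
    (hs : orderOf s = p) (hc : Nat.card (centralizer ({s} : Set H)) = p) (hone : ∀ t : H, orderOf t = p → IsConj s t) :
    ∃ n : ℤ, (θ : H → ℂ) s = n ∧ (charDegree (θ : H → ℂ) : ℤ) ≡ n [ZMOD p] ∧ n ^ 2 ≤ p := by
  classical
  have hrat : ∃ q : ℚ, (θ : H → ℂ) s = q := by
    rw [Cfsg.Agent.Characters.GaloisBasic.exists_rat_iff (irr_isCharacter θ.2)]
    intro m hm
    have h1 : orderOf (s ^ m) = p := by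
      rw [Nat.Coprime.orderOf_pow ((hm.symm).coprime_dvd_left (orderOf_dvd_natCard s)), hs]
    exact (irr_isConj θ.2 (hone _ h1)).symm
  obtain ⟨n, hn⟩ := Cfsg.Agent.Characters.GaloisBasic.exists_int_of_rat (irr_isCharacter θ.2) s hrat
  refine ⟨n, hn, degree_modEq hp θ.2 hs hn, ?_⟩
  have : Finite (IrrCharacter H) := S0909.finite_irr
  have := Fintype.ofFinite (IrrCharacter H)
  have hcol := Cfsg.Agent.H686.CharKit.col_orth s s
  rw [if_pos (IsConj.refl _), hc] at hcol
  have h1 : ∀ χ : IrrCharacter H, (χ : H → ℂ) s * (starRingEnd ℂ) ((χ : H → ℂ) s) =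
      ((Complex.normSq ((χ : H → ℂ) s) : ℝ) : ℂ) := fun χ => Complex.mul_conj _
  rw [Finset.sum_congr rfl fun χ _ => h1 χ, ← Complex.ofReal_sum, ← Complex.ofReal_natCast, Complex.ofReal_inj] at hcol
  have h2 : Complex.normSq ((θ : H → ℂ) s) ≤ p := by
    rw [← hcol]
    exact Finset.single_le_sum (f := fun χ : IrrCharacter H => Complex.normSq ((χ : H → ℂ) s))
      (fun _ _ => Complex.normSq_nonneg _) (Finset.mem_univ θ)
  rw [hn, Complex.normSq_intCast] at h2
  have h3 : ((n * n : ℤ) : ℝ) ≤ ((p : ℤ) : ℝ) := by push_cast; exact h2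
  have h4 : n * n ≤ (p : ℤ) := by exact_mod_cast h3
  rw [pow_two]
  exact h4

theorem neg_one_of {n : ℤ} (h5 : (19 : ℤ) ∣ n - 767637) (h3 : n ^ 2 ≤ 19) : n = -1 := by
  have h6 : n ≤ 4 := by nlinarith
  have h7 : -4 ≤ n := by nlinarith
  omega

theorem not_dvd_of_factorization {d m : ℕ} (hd : 0 < d) (hv : d.factorization 3 = 19) (hm : d = 3 ^ 19 * m) :
    ¬ 3 ∣ m := by
  intro h
  have h1 : 3 ^ 20 ∣ d := by
    rw [hm, pow_succ 3 19]
    exact Nat.mul_dvd_mul_left _ h
  have h2 := (Nat.prime_three.pow_dvd_iff_le_factorization hd.ne').1 h1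
  omega

variable {u : G} (hu : orderOf u = 3) {C T : Subgroup G} (hC : C = centralizer ({u} : Set G)) (hTC : T ≤ C)
  (hcard : Nat.card C = 3 * Nat.card T) (huT : u ∉ T)
  (hG : Nat.card G = 808017424794512875886459904961710757005754368000000000)
  (hT : Nat.card T = 90745943887872000) (θ : IrrCharacter T) (hd : charDegree (θ : T → ℂ) = 767637)
  (θ' : IrrCharacter C) (hθ' : ∀ (c : C) (x : G) (t : T), x ∈ Subgroup.zpowers u → (c : G) = x * t →
      (θ' : C → ℂ) c = (θ : T → ℂ) t)
  {B : Set (IrrCharacter G)} (hind : IsInducedBlock M C (blockOf M (θ' : C → ℂ)) B) {χ : IrrCharacter G} (hχ : χ ∈ B)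
  (hv : (charDegree (χ : G → ℂ)).factorization 3 = 19)

include hu hC hTC hcard huT hG hT hd hθ' hind hχ hv in
/-- **(S19)** in the form of `H676.Deg.RowM.cand` -/
theorem final19 (hM : IsPModular 3 M) {s : T} (hs : orderOf s = 19)
    (hcs : Nat.card (centralizer ({(s : G)} : Set G)) = 1140) (hct : Nat.card (centralizer ({s} : Set T)) = 19)
    (hone : ∀ t : T, orderOf t = 19 → IsConj s t) (m : ℕ) (c : ℤ) (hm : charDegree (χ : G → ℂ) = 3 ^ 19 * m)
    (hc : (χ : G → ℂ) s = c) : (3 : ℤ) ∣ c - m := by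
  have hMp := isPrime_of_isPModular hM
  subst hC
  have hθs : (θ : T → ℂ) s = -1 := by
    obtain ⟨n, h1, h2, h3⟩ := value_of θ (by norm_num) hs hct hone
    rw [hd] at h2
    have h4 : n = -1 := neg_one_of (Int.modEq_iff_dvd.1 h2) (by exact_mod_cast h3)
    rw [h1, h4]
    norm_num
  have h := S19 hu hTC hcard huT hG hT θ.2 hd
    (θ' := (θ' : centralizer ({u} : Set G) → ℂ)) (fun t => hθ' _ 1 t (one_mem _) (by rw [one_mul])) χ.2
    (hind.2.2 θ' (mem_blockOf_self θ') χ hχ) hm (not_dvd_of_factorization (charDegree_pos χ.2) hv hm) hM hs hcs hct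
    (fun t ht => hone t (by
      obtain ⟨g, hg⟩ := isConj_iff.1 ht
      rw [← Subgroup.orderOf_coe, ← hg, show g * (s : G) * g⁻¹ = MulAut.conj g s from rfl, MulEquiv.orderOf_eq,
        Subgroup.orderOf_coe, hs])) hθs hc
  exact Int.modEq_iff_dvd.1 h.symm

theorem conj_eta {η : ℂ} (hη : η ^ 2 + η + 8 = 0) : (starRingEnd ℂ) η = -1 - η := by
  have h1 : ((starRingEnd ℂ) η) ^ 2 + (starRingEnd ℂ) η + 8 = 0 := by
    have := congrArg (starRingEnd ℂ) hη
    rw [map_add, map_add, map_pow, map_zero] at this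
    rwa [show (starRingEnd ℂ) 8 = 8 from Complex.conj_ofNat 8] at this
  have h2 : ((starRingEnd ℂ) η - η) * ((starRingEnd ℂ) η + η + 1) = 0 := by linear_combination h1 - hη
  rcases mul_eq_zero.1 h2 with h3 | h3
  · exfalso
    have h4 : (starRingEnd ℂ) η = η := sub_eq_zero.1 h3
    obtain ⟨x, hx⟩ := Complex.conj_eq_iff_real.1 h4
    rw [hx] at hη
    have h5 : x ^ 2 + x + 8 = 0 := by exact_mod_cast hη
    nlinarith [sq_nonneg (x + 1 / 2)]
  · linear_combination h3

include hu hC hTC hcard huT hG hT hd hθ' hind hχ hv in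
/-- **(S31)** in the form of `H676.Deg.RowM.cand`; the elements of order 31 of `T` are conjugate to `r` or `r⁻¹`, and `r`
is not conjugate to `r⁻¹` in `G` -/
theorem final31 (hM : IsPModular 3 M) {r : T} (hr : orderOf r = 31)
    (hcs : Nat.card (centralizer ({(r : G)} : Set G)) = 186) (hct : Nat.card (centralizer ({r} : Set T)) = 31)
    (htwo : ∀ t : T, orderOf t = 31 → IsConj r t ∨ IsConj r⁻¹ t) (hnr : ¬ IsConj (r : G) (r : G)⁻¹)
    {η : ℂ} (hη : η ^ 2 + η + 8 = 0) (hθr : (θ : T → ℂ) r = η)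
    (m : ℕ) (c : ℤ) (hm : charDegree (χ : G → ℂ) = 3 ^ 19 * m)
    (hc : (χ : G → ℂ) r = c * η ∨ (χ : G → ℂ) r = c * (starRingEnd ℂ) η) : (3 : ℤ) ∣ c + m := by
  have hMp := isPrime_of_isPModular hM
  subst hC
  have h := S31 hu hTC hcard huT hG hT θ.2 hd
    (θ' := (θ' : centralizer ({u} : Set G) → ℂ)) (fun t => hθ' _ 1 t (one_mem _) (by rw [one_mul])) χ.2
    (hind.2.2 θ' (mem_blockOf_self θ') χ hχ) hm (not_dvd_of_factorization (charDegree_pos χ.2) hv hm) hM hr hcs hct
    (fun t ht => by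
      have h1 : orderOf t = 31 := by
        obtain ⟨g, hg⟩ := isConj_iff.1 ht
        rw [← Subgroup.orderOf_coe, ← hg, show g * (r : G) * g⁻¹ = MulAut.conj g r from rfl, MulEquiv.orderOf_eq,
          Subgroup.orderOf_coe, hr]
      rcases htwo t h1 with h2 | h2
      · exact h2
      · exfalso
        apply hnr
        refine ht.trans ?_
        obtain ⟨g, hg⟩ := isConj_iff.1 h2.symm
        exact isConj_iff.2 ⟨g, congrArg Subtype.val hg⟩) hη hθr
  rcases hc with hc | hc
  · have h1 := Int.modEq_iff_dvd.1 (h.2.1 c hc)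
    have h2 : (3 : ℤ) ∣ -(-(m : ℤ) - c) := (Int.dvd_neg).2 h1
    have h3 : -(-(m : ℤ) - c) = c + m := by ring
    rwa [h3] at h2
  · rw [conj_eta hη] at hc
    exact absurd hc (h.2.2 c)

end Final

end Cfsg.Agent.H792.LD
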